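import Groth.Agent.Lib.VeryAmple11.ProjCrit
import Groth.Agent.Lib.BlowUpExist.Proper
import Groth.Agent.Lib.EffCartier.Comap
import Groth.Agent.Lib.TensorMod.IdealMod
import Groth.Agent.S2894
import Groth.Prelude.Def_BlowUp2

/-!
# A blowing up in an ideal of finite type is projective
-/

set_option autoImplicit false
set_option linter.style.haveILetI false
set_option linter.unusedSectionVars false
set_option backward.isDefEq.respectTransparency false
set_option backward.isDefEq.respectTransparency.types false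
set_option maxHeartbeats 1000000

universe u

open CategoryTheory CategoryTheory.Limits AlgebraicGeometry TopologicalSpace Opposite

noncomputable section

namespace Groth.Agent.BlowProj2

open Groth.Agent.BlowUpExist Groth.Agent.BlowUpExist.ChartIdx
open Groth.Agent.M1 (mres ores)

variable {S X : Scheme.{u}} {C : S.IdealSheafData} {b : X ⟶ S}

theorem finite_sections_idealMod (hC : BlowUp.IsFiniteTypeIdeal C) (U : S.Opens) (hU : IsAffineOpen U) :
    Module.Finite Γ(S, U) Γ(ClSub.idealMod C, U) := by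
  let φ : Γ(ClSub.idealMod C, U) →ₗ[Γ(S, U)] Γ(S, U) :=
    { toFun := M2.idealIncl C
      map_add' := M2.idealIncl_add C
      map_smul' := fun r a => M2.idealIncl_smul C r a }
  have hinj : Function.Injective φ := M2.idealIncl_injective C U
  have hr : LinearMap.range φ = C.ideal ⟨U, hU⟩ :=
    SetLike.coe_injective ((LinearMap.coe_range φ).trans (M2.range_idealIncl C ⟨U, hU⟩))
  haveI : Module.Finite Γ(S, U) (LinearMap.range φ) := by
    rw [hr]; exact Module.Finite.iff_fg.2 (hC ⟨U, hU⟩)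
  exact Module.Finite.equiv (LinearEquiv.ofInjective φ hinj).symm

variable (hC : BlowUp.IsFiniteTypeIdeal C) (hb : BlowUp.IsBlowUp b C)
include hC hb

theorem exists_phi :
    ∃ φ : ClSub.idealMod C ⟶ (Scheme.Modules.pushforward b).obj (ClSub.idealMod (BlowUp.exceptional b C)),
      ∀ (U : S.Opens), IsAffineOpen U → ∀ m : Γ(ClSub.idealMod C, U),
        M2.idealIncl (BlowUp.exceptional b C) (VA11.secs φ U m) = b.app U (M2.idealIncl C m) := by
  let E := BlowUp.exceptional b C
  haveI : IsProper b := BlowUpExist.isProper hC hb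
  have hle : C ≤ (E.subschemeι ≫ b).ker := by
    rw [← Scheme.IdealSheafData.map_ker, Scheme.IdealSheafData.ker_subschemeι]
    exact Scheme.IdealSheafData.le_map_comap _ _
  have hex : ∀ (U : S.Opens), IsAffineOpen U → ∀ m : Γ(ClSub.idealMod C, U),
      ∃ a : Γ(ClSub.idealMod E, b ⁻¹ᵁ U), M2.idealIncl E a = b.app U (M2.idealIncl C m) := by
    intro U hU m
    refine M2.exists_idealIncl_eq _ _ ?_
    have h1 : M2.idealIncl C m ∈ (E.subschemeι ≫ b).ker.ideal ⟨U, hU⟩ :=
      hle ⟨U, hU⟩ ((M2.range_idealIncl C ⟨U, hU⟩).le ⟨m, rfl⟩)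
    rw [Scheme.Hom.ker_apply] at h1
    exact h1
  choose g hg using hex
  have hinj := M2.idealIncl_injective E
  obtain ⟨φ, hφ⟩ := VA11.exists_hom_of_affine (ClSub.idealMod C)
    ((Scheme.Modules.pushforward b).obj (ClSub.idealMod E))
    (fun U hU => AddMonoidHom.mk' (fun m => g U hU m) fun m m' => hinj (b ⁻¹ᵁ U) (by
      rw [hg, M2.idealIncl_add, map_add, ← hg U hU m, ← hg U hU m']
      exact (M2.idealIncl_add E _ _).symm))
    (fun U hU r m => hinj (b ⁻¹ᵁ U) (by
      show M2.idealIncl E (g U hU (r • m)) =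
        M2.idealIncl E (b.app U r • (g U hU m : Γ(ClSub.idealMod E, b ⁻¹ᵁ U)))
      rw [hg, M2.idealIncl_smul, M2.idealIncl_smul, map_mul, hg]))
    (fun {U V} hU hV h m => hinj (b ⁻¹ᵁ V) (by
      show M2.idealIncl E (mres (ClSub.idealMod E) (b.preimage_mono h) (g U hU m)) =
        M2.idealIncl E (g V hV (mres (ClSub.idealMod C) h m))
      rw [hg]
      refine (M2.idealIncl_res E (b.preimage_mono h) (g U hU m)).trans ?_
      rw [hg]
      exact ((congrArg (b.app V) (M2.idealIncl_res C h m)).trans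
        (ConcreteCategory.congr_hom (b.naturality (homOfLE h).op) _)).symm))
  exact ⟨φ, fun U hU m => by
    show M2.idealIncl E (φ.app U m) = _
    rw [hφ U hU m]
    exact hg U hU m⟩

variable (φ : ClSub.idealMod C ⟶ (Scheme.Modules.pushforward b).obj (ClSub.idealMod (BlowUp.exceptional b C)))
  (hφ : ∀ (U : S.Opens), IsAffineOpen U → ∀ m : Γ(ClSub.idealMod C, U),
    M2.idealIncl (BlowUp.exceptional b C) (VA11.secs φ U m) = b.app U (M2.idealIncl C m))

/-- The chart of a section of the ideal. -/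
abbrev cidx (U : S.affineOpens) (m : Γ(ClSub.idealMod C, U.1)) : ChartIdx C :=
  ⟨U, 0, M2.idealIncl C m, by rw [zero_add, pow_one]; exact (M2.range_idealIncl C U).le ⟨m, rfl⟩⟩

include hφ

theorem idealIncl_mres (U : S.affineOpens) (m : Γ(ClSub.idealMod C, U.1)) {V : X.Opens} (hV : V ≤ b ⁻¹ᵁ U.1) :
    M2.idealIncl (BlowUp.exceptional b C) (mres (ClSub.idealMod _) hV (VA11.secs φ U.1 m)) =
      b.appLE U.1 V hV (M2.idealIncl C m) := by
  refine (M2.idealIncl_res _ hV _).trans ?_
  rw [hφ U.1 U.2]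
  rfl

theorem gl_secs (U : S.affineOpens) (m : Γ(ClSub.idealMod C, U.1)) :
    VA11.gl (VA11.secs φ U.1 m) = (cidx U m).locus b := by
  let E := BlowUp.exceptional b C
  let s := VA11.secs φ U.1 m
  refine le_antisymm ?_ ?_
  · intro x hx
    obtain ⟨V, hxV, hVgl, e, he⟩ := EffCartier.exists_isEqn hb.1 hx
    have hVU : V.1 ≤ b ⁻¹ᵁ U.1 := hVgl.trans (VA11.gl_le s)
    have hgen := VA11.isGen_of_le_gl (s := s) hVgl
    have hspan : (C.comap b).ideal V = Ideal.span {b.appLE U.1 V.1 hVU (M2.idealIncl C m)} := by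
      refine le_antisymm (fun z hz => ?_) ((Ideal.span_singleton_le_iff_mem _).2 ?_)
      · obtain ⟨w, hw⟩ := (M2.range_idealIncl E V).ge hz
        obtain ⟨c, hc⟩ := (hgen V.1 le_rfl).2 w
        refine Ideal.mem_span_singleton'.2 ⟨c, ?_⟩
        rw [← hw, ← hc, ← idealIncl_mres hC hb φ hφ U m hVU]
        simp only [M1.mres_id]
        exact (M2.idealIncl_smul E _ _).symm
      · rw [EffCartier.comap_ideal C b U V hVU]
        exact Ideal.mem_map_of_mem _ ((M2.range_idealIncl C U).le ⟨m, rfl⟩)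
    have hmem : b.appLE U.1 V.1 hVU (M2.idealIncl C m) ∈ nonZeroDivisors Γ(X, V.1) := by
      have h1 : e ∈ Ideal.span {b.appLE U.1 V.1 hVU (M2.idealIncl C m)} :=
        hspan ▸ (he.ideal_eq ▸ Ideal.mem_span_singleton_self e)
      obtain ⟨u, hu⟩ := Ideal.mem_span_singleton'.1 h1
      have := he.mem
      rw [← hu] at this
      exact (mul_mem_nonZeroDivisors.1 this).2
    have hM := mem_basicOpen_ι (cidx U m) hb.1 (V := V) hVU (e := b.appLE U.1 V.1 hVU (M2.idealIncl C m))
      (by rw [show ((cidx U m).n + 1) = 1 from rfl, pow_one]; exact ⟨hmem, hspan⟩) 1 (by rw [mul_one])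
    exact le_locus hM (by rw [Scheme.basicOpen_of_isUnit _ isUnit_one]; exact hxV)
  · refine VA11.le_gl (locus_le _) ?_
    have h := isEqn_locus hb (cidx U m)
    rw [show ((cidx U m).n + 1) = 1 from rfl, pow_one] at h
    exact M2.isGenerator_idealMod E (U := ⟨_, isAffineOpen_locus hb _⟩) _ h.mem h.ideal_eq _
      (idealIncl_mres hC hb φ hφ U m (locus_le _))

theorem cf_mul (U : S.affineOpens) (m i : Γ(ClSub.idealMod C, U.1)) :
    VA11.cf (VA11.secs φ U.1 m) (VA11.secs φ U.1 i) *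
        b.appLE U.1 (VA11.gl (VA11.secs φ U.1 m)) (VA11.gl_le _) (M2.idealIncl C m) =
      b.appLE U.1 (VA11.gl (VA11.secs φ U.1 m)) (VA11.gl_le _) (M2.idealIncl C i) := by
  rw [← idealIncl_mres hC hb φ hφ U m, ← idealIncl_mres hC hb φ hφ U i, ← M2.idealIncl_smul]
  exact congrArg _ (VA11.cf_smul _ _)

theorem va (U : S.affineOpens) : VA11.VA (b.app U.1).hom (VA11.secs φ U.1) := by
  classical
  intro x hx
  obtain ⟨T, hT⟩ := hC U
  let a : Fin T.card → Γ(S, U.1) := fun l => (T.equivFin.symm l).1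
  have hspan : C.ideal U = Ideal.span (Set.range a) := by
    rw [← hT]
    congr 1
    ext t
    exact ⟨fun ht => ⟨T.equivFin ⟨t, ht⟩, by simp [a]⟩, fun ⟨l, hl⟩ => hl ▸ (T.equivFin.symm l).2⟩
  have hmem : ∀ l, a l ∈ (C ^ (0 + 1)).ideal U := fun l => by
    rw [zero_add, pow_one, hspan]; exact Ideal.subset_span ⟨l, rfl⟩
  obtain ⟨l, O, hxO, hO⟩ := S2894.exists_chart_generator (U := U) hb.1 a hspan hmem (y := x) hx
  obtain ⟨m, hm⟩ := (M2.range_idealIncl C U).ge
    (show a l ∈ C.ideal U from hspan ▸ Ideal.subset_span ⟨l, rfl⟩)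
  let ci := cidx U m
  have hci : (⟨U, 0, a l, hmem l⟩ : ChartIdx C) = ci := by
    simp only [ci, cidx, hm]
  rw [hci] at hO
  let s := VA11.secs φ U.1 m
  have hG : VA11.gl s = ci.locus b := gl_secs hC hb φ hφ U m
  refine ⟨m, 1, one_mem _, ?_⟩
  have hbo : X.basicOpen (1 : Γ(X, VA11.gl s)) = VA11.gl s := Scheme.basicOpen_of_isUnit _ isUnit_one
  refine ⟨?_, ?_, ?_⟩
  · rw [hbo, hG]; exact le_locus hO hxO
  · rw [hbo, hG]; exact isAffineOpen_locus hb _
  · let P := VA11.ratSub (b.app U.1).hom (VA11.secs φ U.1) m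
    suffices hP : ∀ z : Γ(X, VA11.gl s), z ∈ P by
      refine eq_top_iff.2 fun t _ => ?_
      haveI : IsIso (X.presheaf.map (homOfLE (X.basicOpen_le (1 : Γ(X, VA11.gl s)))).op) := by
        have : (homOfLE (X.basicOpen_le (1 : Γ(X, VA11.gl s)))).op = (eqToHom hbo).op := rfl
        rw [this]; infer_instance
      obtain ⟨z, rfl⟩ := (ConcreteCategory.bijective_of_isIso
        (X.presheaf.map (homOfLE (X.basicOpen_le (1 : Γ(X, VA11.gl s)))).op)).2 t
      exact ⟨0, z, hP z, by rw [pow_zero, mul_one]⟩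
    obtain ⟨ψ₀, hψ₀, hψ₀a⟩ := S2894.exists_bijective_locus hb ci
    let ψ := (X.presheaf.map (eqToHom hG).op).hom.comp ψ₀
    have hψa : ∀ c : Γ(S, U.1), ψ (algebraMap _ _ (ci.U.1.topIso.inv c)) =
        b.appLE U.1 (VA11.gl s) (VA11.gl_le _) c := fun c => by
      show X.presheaf.map (eqToHom hG).op (ψ₀ _) = _
      rw [hψ₀a, Iso.inv_hom_id_apply, ← CommRingCat.comp_apply, Scheme.Hom.appLE_map]
    have hbase : ∀ c : Γ(S, U.1), b.appLE U.1 (VA11.gl s) (VA11.gl_le _) c ∈ P := fun c =>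
      VA11.base_mem_ratSub (ρ := (b.app U.1).hom) (σ := VA11.secs φ U.1) (e := m) c
    have hk : b.appLE U.1 (VA11.gl s) (VA11.gl_le _) (M2.idealIncl C m) ∈ nonZeroDivisors Γ(X, VA11.gl s) := by
      have key : ∀ (O : X.Opens) (h : O ≤ b ⁻¹ᵁ U.1), O = ci.locus b →
          b.appLE U.1 O h (M2.idealIncl C m) ∈ nonZeroDivisors Γ(X, O) := by
        rintro O h rfl
        exact (isEqn_locus hb ci).mem
      exact key _ _ hG
    have halg : ∀ y : Γ(ci.U.1.toScheme, ⊤), ψ (algebraMap _ _ y) =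
        b.appLE U.1 (VA11.gl s) (VA11.gl_le _) (ci.U.1.topIso.hom y) := fun y => by
      rw [← hψa, Iso.hom_inv_id_apply]
    have hall : ∀ z, ψ z ∈ P := by
      rintro ⟨z, hz⟩
      induction hz using Algebra.adjoin_induction with
      | mem y hy =>
        obtain ⟨y, hy, rfl⟩ := hy
        have hy' : ci.U.1.topIso.hom y ∈ C.ideal U := by
          rw [BlowUpExist.ChartIdx.J_ideal_top] at hy
          rw [show ((C ^ (ci.n + 1)).ideal ci.U) = C.ideal U from by
            rw [show ci.n + 1 = 1 from rfl, pow_one]] at hy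
          have h2 := Ideal.mem_map_of_mem ci.U.1.topIso.hom.hom hy
          rw [Ideal.map_map] at h2
          rwa [show ci.U.1.topIso.hom.hom.comp ci.U.1.topIso.inv.hom = RingHom.id _ from
            RingHom.ext fun w => Iso.inv_hom_id_apply ci.U.1.topIso w, Ideal.map_id] at h2
        obtain ⟨i, hi⟩ := (M2.range_idealIncl C U).ge hy'
        have hkey : ψ ⟨_, Algebra.subset_adjoin ⟨y, hy, rfl⟩⟩ *
              b.appLE U.1 (VA11.gl s) (VA11.gl_le _) (M2.idealIncl C m) =
            VA11.cf s (VA11.secs φ U.1 i) *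
              b.appLE U.1 (VA11.gl s) (VA11.gl_le _) (M2.idealIncl C m) := by
          rw [cf_mul hC hb φ hφ U m i, hi, ← halg]
          conv_lhs => rw [← hψa, ← map_mul]
          exact congrArg ψ (Subtype.ext (IsLocalization.mk'_spec _ y _))
        rw [(mul_cancel_right_mem_nonZeroDivisors hk).1 hkey]
        exact VA11.cf_mem_ratSub (ρ := (b.app U.1).hom) (σ := VA11.secs φ U.1) (e := m) i
      | algebraMap y => exact (halg y) ▸ hbase _
      | add y z hy' hz' hy hz => exact (map_add ψ ⟨y, hy'⟩ ⟨z, hz'⟩) ▸ add_mem hy hz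
      | mul y z hy' hz' hy hz => exact (map_mul ψ ⟨y, hy'⟩ ⟨z, hz'⟩) ▸ mul_mem hy hz
    intro z
    obtain ⟨z', rfl⟩ := (ConcreteCategory.bijective_of_isIso (X.presheaf.map (eqToHom hG).op)).2 z
    obtain ⟨z'', rfl⟩ := hψ₀.2 z'
    exact hall z''

omit hφ in
theorem isProjective : RelProj.IsProjective b := by
  obtain ⟨φ, hφ⟩ := exists_phi hC hb
  haveI : IsProper b := BlowUpExist.isProper hC hb
  exact VA11.isProjective_of_vamp (M2.isQCoh_idealMod C)
    (M1.isFT_of_finite_sections (M2.isQCoh_idealMod C) (finite_sections_idealMod hC))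
    (VA11.vamp_of_forall fun U hU => va hC hb φ hφ ⟨U, hU⟩)

end Groth.Agent.BlowProj2
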